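import Cfsg.Agent.H465.OEBase
import Cfsg.Agent.AutOrth.Main
import Cfsg.Agent.H521.OddFixOrth

/-!
# `PΩ⁺₈(q)`, `r = q² + q + 1` prime: Singer elements (helper462, for S3853, S3943, S4384, S3817; task G1)

`exists_singer` : every frame has a Singer element.
-/

set_option autoImplicit false
set_option linter.unusedSectionVars false

namespace Cfsg.Agent.H462.OEight

open Module QuadraticMap Cfsg.Agent.LieClassical.OrthCore Cfsg.Agent.LieClassical.OrthTrans
  Cfsg.Agent.ClassicalGeometry.OrthAut1 Cfsg.Agent.LieClassical.QuadForms Cfsg.Agent.ClassicalGeometry.TrialityOct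
  Cfsg.Agent.ClassicalGeometry.Triality Cfsg.Agent.H465.OEight

section Linear

variable {F : Type*} [Field F] [Fintype F] {U : Type*} [AddCommGroup U] [Module F U]

/-- a linear map of order `r` of a 3-space has no non-zero fixed vector -/
theorem no_fixed {r : ℕ} (hr : r = Fintype.card F ^ 2 + Fintype.card F + 1) (hp : r.Prime)
    (hU : finrank F U = 3) {T : U ≃ₗ[F] U} (hT : T ^ r = 1) (hT1 : T ≠ 1) {w : U} (hw : T w = w) : w = 0 := by
  have hfd : FiniteDimensional F U := FiniteDimensional.of_finrank_pos (by rw [hU]; norm_num)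
  have hfin : Finite U := Module.finite_of_finite F
  have : Fact r.Prime := ⟨hp⟩
  have hq2 : 2 ≤ Fintype.card F := Fintype.one_lt_card
  set q := Fintype.card F with hq
  -- the fixed space
  let K : Submodule F U := LinearMap.ker (T.toLinearMap - LinearMap.id)
  have hK : ∀ u : U, u ∈ K ↔ T u = u := by
    intro u
    rw [LinearMap.mem_ker, LinearMap.sub_apply, sub_eq_zero]
    rfl
  have hPG : IsPGroup r ↥(Subgroup.zpowers T) := by
    have hf : orderOf T = r := orderOf_eq_prime hT hT1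
    exact IsPGroup.of_card (n := 1) (by rw [Nat.card_zpowers, hf, pow_one])
  have h1 := hPG.card_modEq_card_fixedPoints U
  have h2 : Nat.card (MulAction.fixedPoints ↥(Subgroup.zpowers T) U) = Nat.card K := by
    refine Nat.card_congr (Equiv.subtypeEquivRight fun u => ?_)
    rw [MulAction.mem_fixedPoints, hK]
    constructor
    · intro h
      exact h ⟨T, Subgroup.mem_zpowers T⟩
    · rintro h ⟨_, k, rfl⟩
      have h3 : T ∈ MulAction.stabilizer (U ≃ₗ[F] U) u := h
      exact zpow_mem h3 k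
  rw [h2, Module.natCard_eq_pow_finrank (K := F) (V := U), Module.natCard_eq_pow_finrank (K := F) (V := K), hU,
    Nat.card_eq_fintype_card, ← hq] at h1
  have hd : finrank F K ≤ 3 := hU ▸ K.finrank_le
  have hq3 : q ^ 3 ≡ 1 [MOD r] := by
    have e : q ^ 3 = 1 + r * (q - 1) := by
      obtain ⟨n, hn⟩ : ∃ n, q = n + 1 := ⟨q - 1, by omega⟩
      rw [hr, hn, Nat.add_sub_cancel]
      ring
    rw [e]
    exact (Nat.modEq_iff_dvd' (by omega)).2 ⟨q - 1, by omega⟩ |>.symm
  have h4 : q ^ finrank F K ≡ 1 [MOD r] := h1.symm.trans hq3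
  have h5 : finrank F K = 0 ∨ finrank F K = 1 ∨ finrank F K = 2 ∨ finrank F K = 3 := by omega
  rcases h5 with h5 | h5 | h5 | h5
  · have h6 : K = ⊥ := Submodule.finrank_eq_zero.1 h5
    have h7 : w ∈ K := (hK w).2 hw
    rw [h6] at h7
    exact h7
  · exfalso
    rw [h5, pow_one] at h4
    have h6 := (Nat.modEq_iff_dvd' (by omega)).1 h4.symm
    have h7 := Nat.le_of_dvd (by omega) h6
    have h8 := Nat.sub_le q 1
    nlinarith
  · exfalso
    rw [h5] at h4
    have h6 := (Nat.modEq_iff_dvd' (by nlinarith)).1 h4.symm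
    have h7 : q ^ 2 - 1 = (q - 1) * (q + 1) := by
      obtain ⟨n, hn⟩ : ∃ n, q = n + 1 := ⟨q - 1, by omega⟩
      rw [hn, Nat.add_sub_cancel]
      have : (n + 1) ^ 2 = n * (n + 1 + 1) + 1 := by ring
      omega
    rw [h7] at h6
    rcases hp.dvd_mul.1 h6 with h8 | h8
    · have h9 := Nat.le_of_dvd (by omega) h8
      have h10 := Nat.sub_le q 1
      nlinarith
    · have h9 := Nat.le_of_dvd (by omega) h8
      nlinarith
  · exfalso
    apply hT1
    have h6 : K = ⊤ := Submodule.eq_top_of_finrank_eq (by rw [h5, hU])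
    ext u
    exact (hK u).1 (h6 ▸ Submodule.mem_top)

/-- a linear map of order `r = q² + q + 1` of a 3-space is transitive on the points -/
theorem transitive {r : ℕ} (hr : r = Fintype.card F ^ 2 + Fintype.card F + 1) (hp : r.Prime)
    (hU : finrank F U = 3) {T : U ≃ₗ[F] U} (hT : T ^ r = 1) (hT1 : T ≠ 1) {w w' : U} (hw : w ≠ 0) (hw' : w' ≠ 0) :
    ∃ (k : ℕ) (a : F), (T ^ k) w = a • w' := by
  classical
  have hfd : FiniteDimensional F U := FiniteDimensional.of_finrank_pos (by rw [hU]; norm_num)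
  have hfin : Finite U := Module.finite_of_finite F
  have : Fintype U := Fintype.ofFinite U
  have : Fact r.Prime := ⟨hp⟩
  have hq2 : 2 ≤ Fintype.card F := Fintype.one_lt_card
  have hord : orderOf T = r := orderOf_eq_prime hT hT1
  -- powers have no eigenvectors
  have key : ∀ (j : ℕ) (c : F), (T ^ j) w = c • w → r ∣ j := by
    intro j c hj
    by_contra hnd
    have hc : c ≠ 0 := by
      rintro rfl
      rw [zero_smul] at hj
      exact hw ((T ^ j).map_eq_zero_iff.1 hj)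
    have h1 : ∀ n : ℕ, ((T ^ j) ^ n) w = c ^ n • w := by
      intro n
      induction n with
      | zero => rw [pow_zero, pow_zero, one_smul]; rfl
      | succ n ih =>
        rw [pow_succ', pow_succ]
        change (T ^ j) (((T ^ j) ^ n) w) = _
        rw [ih, map_smul, hj, smul_smul]
    have h2 := h1 (Fintype.card F - 1)
    rw [FiniteField.pow_card_sub_one_eq_one c hc, one_smul, ← pow_mul] at h2
    -- `T` is a power of it
    have hcop : Nat.Coprime r (j * (Fintype.card F - 1)) := by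
      rw [hp.coprime_iff_not_dvd, hp.dvd_mul, not_or]
      refine ⟨hnd, fun h3 => ?_⟩
      have h4 := Nat.le_of_dvd (by omega) h3
      have h5 := Nat.sub_le (Fintype.card F) 1
      nlinarith
    obtain ⟨m, -, hm⟩ := Nat.exists_mul_mod_eq_one_of_coprime hcop.symm hp.one_lt
    have h3 : T = (T ^ (j * (Fintype.card F - 1))) ^ m := by
      rw [← pow_mul, ← pow_mod_orderOf T (j * (Fintype.card F - 1) * m), hord, hm, pow_one]
    have h4 : ∀ n : ℕ, ((T ^ (j * (Fintype.card F - 1))) ^ n) w = w := by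
      intro n
      induction n with
      | zero => rfl
      | succ n ih =>
        rw [pow_succ']
        change (T ^ (j * (Fintype.card F - 1))) (((T ^ (j * (Fintype.card F - 1))) ^ n) w) = _
        rw [ih, h2]
    have h5 : T w = w := by
      conv_lhs => rw [h3]
      exact h4 m
    exact hw (no_fixed hr hp hU hT hT1 h5)
  let f : Fˣ × Fin r → {u : U // u ≠ 0} := fun p => ⟨(p.1 : F) • (T ^ (p.2 : ℕ)) w, by
    intro h
    rcases smul_eq_zero.1 h with h1 | h1
    · exact p.1.ne_zero h1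
    · exact hw ((T ^ (p.2 : ℕ)).map_eq_zero_iff.1 h1)⟩
  have hinj : Function.Injective f := by
    have aux : ∀ (a b : Fˣ) (k l : Fin r), (k : ℕ) ≤ l → f (a, k) = f (b, l) → (a, k) = (b, l) := by
      intro a b k l hkl h
      have h1 : (a : F) • (T ^ (k : ℕ)) w = (b : F) • (T ^ (l : ℕ)) w := congrArg Subtype.val h
      have h2 : (T ^ ((l : ℕ) - k)) w = ((b : F)⁻¹ * a) • w := by
        apply (T ^ (k : ℕ)).injective
        have h3 : (T ^ (k : ℕ)) ((T ^ ((l : ℕ) - k)) w) = (T ^ (l : ℕ)) w := by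
          change (T ^ (k : ℕ) * T ^ ((l : ℕ) - k)) w = _
          rw [← pow_add, Nat.add_sub_cancel' hkl]
        rw [h3, map_smul, mul_smul, h1, smul_smul, inv_mul_cancel₀ b.ne_zero, one_smul]
      have h3 := key _ _ h2
      have h4 : (l : ℕ) - k = 0 := Nat.eq_zero_of_dvd_of_lt h3 (by omega)
      have h5 : k = l := Fin.ext (by omega)
      subst h5
      have h6 : (a : F) = b := by
        have h7 : ((a : F) - b) • (T ^ (k : ℕ)) w = 0 := by rw [sub_smul, h1, sub_self]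
        rcases smul_eq_zero.1 h7 with h8 | h8
        · exact sub_eq_zero.1 h8
        · exact absurd ((T ^ (k : ℕ)).map_eq_zero_iff.1 h8) hw
      rw [Units.ext h6]
    rintro ⟨a, k⟩ ⟨b, l⟩ h
    rcases le_total (k : ℕ) l with h1 | h1
    · exact aux a b k l h1 h
    · exact (aux b a l k h1 h.symm).symm
  have hcard : Fintype.card (Fˣ × Fin r) = Fintype.card {u : U // u ≠ 0} := by
    rw [Fintype.card_prod, Fintype.card_units, Fintype.card_fin, Fintype.card_subtype_compl,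
      Fintype.card_subtype_eq, Module.card_eq_pow_finrank (K := F) (V := U), hU]
    obtain ⟨n, hn⟩ : ∃ n, Fintype.card F = n + 1 := ⟨Fintype.card F - 1, by omega⟩
    rw [hr, hn, Nat.add_sub_cancel]
    have e : (n + 1) ^ 3 = n * ((n + 1) ^ 2 + (n + 1) + 1) + 1 := by ring
    omega
  obtain ⟨⟨a, k⟩, hk⟩ := ((Fintype.bijective_iff_injective_and_card f).2 ⟨hinj, hcard⟩).2 ⟨w', hw'⟩
  refine ⟨k, (a : F)⁻¹, ?_⟩
  have h1 : (a : F) • (T ^ (k : ℕ)) w = w' := congrArg Subtype.val hk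
  rw [← h1, smul_smul, inv_mul_cancel₀ a.ne_zero, one_smul]

/-- there is a linear map of order `r = q² + q + 1` of a 3-space -/
theorem exists_order {r : ℕ} (hr : r = Fintype.card F ^ 2 + Fintype.card F + 1) (hp : r.Prime)
    (hU : finrank F U = 3) : ∃ T : U ≃ₗ[F] U, orderOf T = r := by
  classical
  have hfd : FiniteDimensional F U := FiniteDimensional.of_finrank_pos (by rw [hU]; norm_num)
  have hfin : Finite U := Module.finite_of_finite F
  have : Fact r.Prime := ⟨hp⟩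
  have hq2 : 2 ≤ Fintype.card F := Fintype.one_lt_card
  let b : Basis (Fin 3) F U := finBasisOfFinrankEq F U hU
  -- the group of units of matrices
  let e : (Matrix (Fin 3) (Fin 3) F)ˣ ≃* (U ≃ₗ[F] U) :=
    (Units.mapEquiv (LinearMap.toMatrixAlgEquiv b).toMulEquiv.symm).trans (LinearMap.GeneralLinearGroup.generalLinearEquiv F U)
  have hcard : Nat.card (GL (Fin 3) F) = ∏ i : Fin 3, (Fintype.card F ^ 3 - Fintype.card F ^ (i : ℕ)) := by
    have := Matrix.card_GL_field (𝔽 := F) 3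
    exact this
  have hdvd : r ∣ Nat.card (GL (Fin 3) F) := by
    rw [hcard]
    refine Dvd.dvd.trans ?_ (Finset.dvd_prod_of_mem _ (Finset.mem_univ (0 : Fin 3)))
    obtain ⟨n, hn⟩ : ∃ n, Fintype.card F = n + 1 := ⟨Fintype.card F - 1, by omega⟩
    rw [hr, hn]
    refine ⟨n, ?_⟩
    have e : (n + 1) ^ 3 = ((n + 1) ^ 2 + (n + 1) + 1) * n + 1 := by ring
    rw [Fin.val_zero, pow_zero]
    omega
  obtain ⟨A, hA⟩ := exists_prime_orderOf_dvd_card' (G := GL (Fin 3) F) r hdvd
  exact ⟨e A, by rw [MulEquiv.orderOf_eq, hA]⟩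

end Linear

section Frame

variable {F : Type*} [Field F] {c₁ c₂ : V8 F} {W₁ W₂ : Submodule F (V8 F)}

/-- the coordinates -/
def coord (c₁ c₂ : V8 F) (W₁ W₂ : Submodule F (V8 F)) : (F × F) × (W₁ × W₂) →ₗ[F] V8 F :=
  ((LinearMap.toSpanSingleton F (V8 F) c₁).coprod (LinearMap.toSpanSingleton F (V8 F) c₂)).coprod
    (W₁.subtype.coprod W₂.subtype)

theorem coord_apply (a b : F) (u : W₁) (v : W₂) :
    coord c₁ c₂ W₁ W₂ ((a, b), (u, v)) = a • c₁ + b • c₂ + ((u : V8 F) + v) := rfl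

theorem polar_self {v : V8 F} (hv : plusForm 4 F v = 0) : polar (plusForm 4 F) v v = 0 := by
  rw [QuadraticMap.polar_self, hv, smul_zero]

theorem coord_inj (h : Frame c₁ c₂ W₁ W₂) : Function.Injective (coord c₁ c₂ W₁ W₂) := by
  rw [← LinearMap.ker_eq_bot, eq_bot_iff]
  rintro ⟨⟨a, b⟩, ⟨u, v⟩⟩ h0
  rw [LinearMap.mem_ker, coord_apply] at h0
  have e1 : polar (plusForm 4 F) c₂ (a • c₁ + b • c₂ + ((u : V8 F) + v)) = a := by
    rw [polar_add_right, polar_add_right, polar_add_right, polar_smul_right, polar_smul_right, polar_self h.q₂,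
      (h.perp₁ u u.2).2, (h.perp₂ v v.2).2, polar_comm, h.pair]
    simp
  have e2 : polar (plusForm 4 F) c₁ (a • c₁ + b • c₂ + ((u : V8 F) + v)) = b := by
    rw [polar_add_right, polar_add_right, polar_add_right, polar_smul_right, polar_smul_right, polar_self h.q₁,
      (h.perp₁ u u.2).1, (h.perp₂ v v.2).1, h.pair]
    simp
  rw [h0] at e1 e2
  have ha : a = 0 := by rw [← e1, polar_zero_right]
  have hb : b = 0 := by rw [← e2, polar_zero_right]
  subst ha hb
  rw [zero_smul, zero_smul, add_zero, zero_add] at h0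
  have hu : (u : V8 F) ∈ W₁ ⊓ W₂ := by
    refine ⟨u.2, ?_⟩
    rw [eq_neg_of_add_eq_zero_left h0]
    exact W₂.neg_mem v.2
  rw [h.disj, Submodule.mem_bot] at hu
  rw [hu, zero_add] at h0
  rw [Submodule.mem_bot]
  exact Prod.ext rfl (Prod.ext (Subtype.ext hu) (Subtype.ext h0))

theorem finrank_src (h : Frame c₁ c₂ W₁ W₂) : finrank F ((F × F) × (W₁ × W₂)) = finrank F (V8 F) := by
  rw [Module.finrank_prod, Module.finrank_prod, Module.finrank_prod, finrank_self, h.d₁, h.d₂,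
    Module.finrank_fintype_fun_eq_card]
  simp

/-- the coordinates as an equivalence -/
noncomputable def coordE (h : Frame c₁ c₂ W₁ W₂) : ((F × F) × (W₁ × W₂)) ≃ₗ[F] V8 F :=
  LinearEquiv.ofInjectiveOfFinrankEq (coord c₁ c₂ W₁ W₂) (coord_inj h) (finrank_src h)

theorem coordE_apply (h : Frame c₁ c₂ W₁ W₂) (a b : F) (u : W₁) (v : W₂) :
    coordE h ((a, b), (u, v)) = a • c₁ + b • c₂ + ((u : V8 F) + v) := rfl

/-- the quadratic form in coordinates -/
theorem Q_coord (h : Frame c₁ c₂ W₁ W₂) (a b : F) (u : W₁) (v : W₂) :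
    plusForm 4 F (a • c₁ + b • c₂ + ((u : V8 F) + v)) = a * b + polar (plusForm 4 F) u v := by
  rw [Q_add, Q_add (a • c₁), Q_add (u : V8 F), QuadraticMap.map_smul, QuadraticMap.map_smul, h.q₁, h.q₂, h.ts₁ u u.2,
    h.ts₂ v v.2, polar_smul_left, polar_smul_right, h.pair, polar_add_left, polar_smul_left, polar_smul_left,
    polar_add_right, polar_add_right, (h.perp₁ u u.2).1, (h.perp₁ u u.2).2, (h.perp₂ v v.2).1, (h.perp₂ v v.2).2]
  simp only [smul_eq_mul]
  ring

/-- the pairing of `W₂` with `W₁` -/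
def pairing (W₁ W₂ : Submodule F (V8 F)) : W₂ →ₗ[F] Dual F W₁ :=
  ((polarBilin (plusForm 4 F)).compl₁₂ W₁.subtype W₂.subtype).flip

theorem pairing_apply (u : W₁) (v : W₂) : pairing W₁ W₂ v u = polar (plusForm 4 F) u v := rfl

theorem pairing_inj (h : Frame c₁ c₂ W₁ W₂) : Function.Injective (pairing W₁ W₂) := by
  rw [← LinearMap.ker_eq_bot, eq_bot_iff]
  intro v hv
  rw [LinearMap.mem_ker] at hv
  rw [Submodule.mem_bot]
  apply Subtype.ext
  apply nondeg8
  intro y
  obtain ⟨⟨⟨a, b⟩, ⟨u, v'⟩⟩, rfl⟩ := (coordE h).surjective y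
  rw [coordE_apply, polar_add_right, polar_add_right, polar_add_right, polar_smul_right, polar_smul_right,
    polar_comm _ _ c₁, (h.perp₂ v v.2).1, polar_comm _ _ c₂, (h.perp₂ v v.2).2, h.ts₂.polar v.2 v'.2, polar_comm,
    ← pairing_apply, hv]
  simp

/-- the pairing as an equivalence -/
noncomputable def pairE (h : Frame c₁ c₂ W₁ W₂) : W₂ ≃ₗ[F] Dual F W₁ :=
  LinearEquiv.ofInjectiveOfFinrankEq (pairing W₁ W₂) (pairing_inj h)
    (by rw [Subspace.dual_finrank_eq, h.d₁, h.d₂])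

theorem pairE_apply (h : Frame c₁ c₂ W₁ W₂) (u : W₁) (v : W₂) : pairE h v u = polar (plusForm 4 F) u v := rfl

/-- the dual map -/
noncomputable def dualE (h : Frame c₁ c₂ W₁ W₂) (A : W₁ ≃ₗ[F] W₁) : W₂ ≃ₗ[F] W₂ :=
  ((pairE h).trans A.symm.dualMap).trans (pairE h).symm

theorem polar_dual (h : Frame c₁ c₂ W₁ W₂) (A : W₁ ≃ₗ[F] W₁) (u : W₁) (v : W₂) :
    polar (plusForm 4 F) (A u : V8 F) (dualE h A v) = polar (plusForm 4 F) (u : V8 F) v := by
  rw [← pairE_apply h]
  have h1 : pairE h (dualE h A v) = A.symm.dualMap (pairE h v) := by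
    unfold dualE
    rw [LinearEquiv.trans_apply, LinearEquiv.trans_apply, LinearEquiv.apply_symm_apply]
  rw [h1, LinearEquiv.dualMap_apply, LinearEquiv.symm_apply_apply, pairE_apply]

/-- the isometry -/
noncomputable def ext (h : Frame c₁ c₂ W₁ W₂) (A : W₁ ≃ₗ[F] W₁) : V8 F ≃ₗ[F] V8 F :=
  ((coordE h).symm.trans ((LinearEquiv.refl F (F × F)).prodCongr (A.prodCongr (dualE h A)))).trans (coordE h)

theorem ext_coord (h : Frame c₁ c₂ W₁ W₂) (A : W₁ ≃ₗ[F] W₁) (a b : F) (u : W₁) (v : W₂) :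
    ext h A (a • c₁ + b • c₂ + ((u : V8 F) + v)) = a • c₁ + b • c₂ + ((A u : V8 F) + dualE h A v) := by
  rw [← coordE_apply h]
  unfold ext
  rw [LinearEquiv.trans_apply, LinearEquiv.trans_apply, LinearEquiv.symm_apply_apply]
  rfl

theorem ext_mem_O (h : Frame c₁ c₂ W₁ W₂) (A : W₁ ≃ₗ[F] W₁) : ext h A ∈ O (plusForm 4 F) := by
  intro y
  obtain ⟨⟨⟨a, b⟩, ⟨u, v⟩⟩, rfl⟩ := (coordE h).surjective y
  rw [coordE_apply, ext_coord, Q_coord h, Q_coord h, polar_dual]

theorem ext_c₁ (h : Frame c₁ c₂ W₁ W₂) (A : W₁ ≃ₗ[F] W₁) : ext h A c₁ = c₁ := by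
  have h1 := ext_coord h A 1 0 0 0
  simpa using h1

theorem ext_c₂ (h : Frame c₁ c₂ W₁ W₂) (A : W₁ ≃ₗ[F] W₁) : ext h A c₂ = c₂ := by
  have h1 := ext_coord h A 0 1 0 0
  simpa using h1

theorem ext_W₁ (h : Frame c₁ c₂ W₁ W₂) (A : W₁ ≃ₗ[F] W₁) (u : W₁) : ext h A u = A u := by
  have h1 := ext_coord h A 0 0 u 0
  simpa using h1

theorem ext_W₂ (h : Frame c₁ c₂ W₁ W₂) (A : W₁ ≃ₗ[F] W₁) (v : W₂) : ext h A v = dualE h A v := by
  have h1 := ext_coord h A 0 0 0 v
  simpa using h1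

theorem ext_pow_W₁ (h : Frame c₁ c₂ W₁ W₂) (A : W₁ ≃ₗ[F] W₁) (u : W₁) (k : ℕ) : (ext h A ^ k) u = ((A ^ k) u : W₁) := by
  induction k with
  | zero => rfl
  | succ k ih =>
    rw [pow_succ', pow_succ']
    change ext h A ((ext h A ^ k) u) = (A ((A ^ k) u) : W₁)
    rw [ih, ext_W₁]

theorem ext_pow_W₂ (h : Frame c₁ c₂ W₁ W₂) (A : W₁ ≃ₗ[F] W₁) (v : W₂) (k : ℕ) :
    (ext h A ^ k) v = ((dualE h A ^ k) v : W₂) := by
  induction k with
  | zero => rfl
  | succ k ih =>
    rw [pow_succ', pow_succ']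
    change ext h A ((ext h A ^ k) v) = (dualE h A ((dualE h A ^ k) v) : W₂)
    rw [ih, ext_W₂]

theorem dualE_one (h : Frame c₁ c₂ W₁ W₂) : dualE h 1 = 1 := by
  apply LinearEquiv.ext
  intro v
  apply (pairE h).injective
  ext u
  rw [pairE_apply, pairE_apply]
  exact polar_dual h 1 u v

theorem dualE_mul (h : Frame c₁ c₂ W₁ W₂) (A B : W₁ ≃ₗ[F] W₁) : dualE h (A * B) = dualE h A * dualE h B := by
  apply LinearEquiv.ext
  intro v
  apply (pairE h).injective
  ext u
  obtain ⟨u, rfl⟩ := (A * B).surjective u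
  rw [pairE_apply, pairE_apply, polar_dual]
  change _ = polar (plusForm 4 F) (A (B u) : V8 F) (dualE h A (dualE h B v))
  rw [polar_dual, polar_dual]

theorem dualE_pow (h : Frame c₁ c₂ W₁ W₂) (A : W₁ ≃ₗ[F] W₁) (k : ℕ) : dualE h (A ^ k) = dualE h A ^ k := by
  induction k with
  | zero => rw [pow_zero, pow_zero, dualE_one]
  | succ k ih => rw [pow_succ', pow_succ', dualE_mul, ih]

theorem dualE_ne_one (h : Frame c₁ c₂ W₁ W₂) {A : W₁ ≃ₗ[F] W₁} (hA : A ≠ 1) : dualE h A ≠ 1 := by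
  intro h1
  apply hA
  apply LinearEquiv.ext
  intro u
  have h2 : ∀ v : W₂, pairE h v (A u - u) = 0 := by
    intro v
    have h3 := polar_dual h A u v
    rw [h1] at h3
    rw [map_sub, pairE_apply, pairE_apply, sub_eq_zero]
    exact h3
  have h3 : ∀ φ : Dual F W₁, φ (A u - u) = 0 := by
    intro φ
    obtain ⟨v, rfl⟩ := (pairE h).surjective φ
    exact h2 v
  exact sub_eq_zero.1 ((Module.forall_dual_apply_eq_zero_iff F _).1 h3)

theorem ext_pow_one (h : Frame c₁ c₂ W₁ W₂) {A : W₁ ≃ₗ[F] W₁} {r : ℕ} (hA : A ^ r = 1) : ext h A ^ r = 1 := by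
  have hc₁ : ∀ k : ℕ, (ext h A ^ k) c₁ = c₁ := by
    intro k
    induction k with
    | zero => rfl
    | succ k ih =>
      rw [pow_succ']
      change ext h A ((ext h A ^ k) c₁) = c₁
      rw [ih, ext_c₁]
  have hc₂ : ∀ k : ℕ, (ext h A ^ k) c₂ = c₂ := by
    intro k
    induction k with
    | zero => rfl
    | succ k ih =>
      rw [pow_succ']
      change ext h A ((ext h A ^ k) c₂) = c₂
      rw [ih, ext_c₂]
  apply LinearEquiv.ext
  intro y
  obtain ⟨⟨⟨a, b⟩, ⟨u, v⟩⟩, rfl⟩ := (coordE h).surjective y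
  rw [coordE_apply, map_add, map_add, map_add, map_smul, map_smul, hc₁, hc₂, ext_pow_W₁, ext_pow_W₂, hA,
    ← dualE_pow, hA, dualE_one]
  rfl

/-- **G1**: every frame has a Singer element -/
theorem exists_singer [Fintype F] {r : ℕ} (hr : r = Fintype.card F ^ 2 + Fintype.card F + 1) (hp : r.Prime)
    (h : Frame c₁ c₂ W₁ W₂) : ∃ g, Singer r g c₁ c₂ W₁ W₂ := by
  have : Fact r.Prime := ⟨hp⟩
  obtain ⟨A, hA⟩ := exists_order hr hp h.d₁
  have hA1 : A ≠ 1 := by
    rintro rfl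
    rw [orderOf_one] at hA
    exact hp.one_lt.ne hA
  have hAr : A ^ r = 1 := by rw [← hA, pow_orderOf_eq_one]
  have hg := ext_pow_one h hAr
  have hg1 : ext h A ≠ 1 := by
    intro h1
    apply hA1
    apply LinearEquiv.ext
    intro u
    have h2 := ext_W₁ h A u
    rw [h1] at h2
    exact Subtype.ext h2.symm
  have hD1 := dualE_ne_one h hA1
  have hDr : dualE h A ^ r = 1 := by rw [← dualE_pow, hAr, dualE_one]
  refine ⟨ext h A, ?_, orderOf_eq_prime hg hg1, ext_c₁ h A, ext_c₂ h A, ?_, ?_, ?_, ?_⟩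
  · -- an odd order isometry
    obtain ⟨k, hk⟩ : ∃ k, r + 1 = k + k := by
      have hodd : Odd r := by
        rw [hr]
        have h1 : Even (Fintype.card F ^ 2 + Fintype.card F) := by
          rw [pow_two, ← Nat.mul_succ]
          exact Nat.even_mul_succ_self _
        exact h1.add_one
      obtain ⟨m, hm⟩ := hodd
      exact ⟨m + 1, by omega⟩
    have h1 : ext h A = (ext h A ^ k) * (ext h A ^ k) := by
      rw [← pow_add, ← hk, pow_succ, hg, one_mul]
    rw [h1]
    exact Cfsg.Agent.H521.OddFixOrth.sq_mem_E (Cfsg.Agent.AutOrth.Main.good_plus (by norm_num))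
      (Subgroup.pow_mem _ (ext_mem_O h A) k)
  · intro w hw
    rw [ext_W₁ h A ⟨w, hw⟩]
    exact (A ⟨w, hw⟩).2
  · intro w hw
    rw [ext_W₂ h A ⟨w, hw⟩]
    exact (dualE h A ⟨w, hw⟩).2
  · intro w hw w' hw' h0 h0'
    obtain ⟨k, a, h1⟩ := transitive hr hp h.d₁ hAr hA1 (w := ⟨w, hw⟩) (w' := ⟨w', hw'⟩)
      (fun h => h0 (congrArg Subtype.val h)) (fun h => h0' (congrArg Subtype.val h))
    refine ⟨k, a, ?_⟩
    rw [ext_pow_W₁ h A ⟨w, hw⟩ k, h1]
    rfl
  · intro w hw w' hw' h0 h0'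
    obtain ⟨k, a, h1⟩ := transitive hr hp h.d₂ hDr hD1 (w := ⟨w, hw⟩) (w' := ⟨w', hw'⟩)
      (fun h => h0 (congrArg Subtype.val h)) (fun h => h0' (congrArg Subtype.val h))
    refine ⟨k, a, ?_⟩
    rw [ext_pow_W₂ h A ⟨w, hw⟩ k, h1]
    rfl

end Frame

end Cfsg.Agent.H462.OEight
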