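import Cfsg.Agent.H465.OEBase
import Cfsg.Agent.AutOrth.Final
import Cfsg.Agent.H208.Parity

/-!
# `PΩ⁺₈(q)`: stabilisers of totally singular 3- and 4-spaces (helper462, for S3853, S3943, S4384, S3817; task T1, T2)

* `exists_aut_stab` : the stabiliser of a totally singular 4-space is the image of the stabiliser of a singular point
  under an automorphism;
* `stab_le_stab` : the stabiliser of a totally singular 3-space fixes the 4-spaces containing it;
* `exists_four` : every totally singular 3-space lies in a totally singular 4-space;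
* `exists_max` : the same for all totally singular subspaces; `ev_of_E` : elements of `E Q` preserve the two families.
-/

set_option autoImplicit false
set_option linter.unusedSectionVars false

namespace Cfsg.Agent.H462.OEight

open Module QuadraticMap Cfsg.Agent.LieClassical.OrthCore Cfsg.Agent.LieClassical.OrthTrans
  Cfsg.Agent.ClassicalGeometry.OrthAut1 Cfsg.Agent.LieClassical.QuadForms Cfsg.Agent.ClassicalGeometry.TrialityOct
  Cfsg.Agent.ClassicalGeometry.Triality Cfsg.Agent.ClassicalGeometry.OrthSemi Cfsg.Agent.H198.TriAut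
  Cfsg.Agent.ClassicalGeometry.TrialitySpaces Cfsg.Agent.H198.TriBase Cfsg.Agent.H208.Parity

variable {F : Type*} [Field F]

theorem finrank_V8 : finrank F (V8 F) = 2 * 4 := by
  rw [Module.finrank_fintype_fun_eq_card]; simp

theorem nd8 : Nondeg (plusForm 4 F) := fun x hx => polar_plusForm_nondeg 4 x hx

theorem exists_tsm : ∃ U : Submodule F (V8 F), TSm (plusForm 4 F) 4 U := by
  refine ⟨leftSp (Pi.single (.inl 0) 1), finrank_leftSp ?_ ?_, leftSp_sing ?_⟩
  · rw [norm8]; simp
  · intro h
    have := congrFun h (.inl 0)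
    simp at this
  · rw [norm8]; simp

/-- every totally singular subspace lies in a totally singular 4-space -/
theorem exists_max {W : Submodule F (V8 F)} (hW : TS (plusForm 4 F) W) :
    ∃ X, TS (plusForm 4 F) X ∧ finrank F X = 4 ∧ W ≤ X := by
  obtain ⟨n, hn⟩ : ∃ n, n = 4 - finrank F W := ⟨_, rfl⟩
  induction n using Nat.strong_induction_on generalizing W with
  | _ n ih =>
    have hle : finrank F W ≤ 4 := finrank_le_of_ts nd8 finrank_V8 hW
    by_cases h4 : finrank F W = 4
    · exact ⟨W, hW, h4, le_rfl⟩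
    · have h1 : ¬ ∀ X : Submodule F (V8 F), (∀ w ∈ X, plusForm 4 F w = 0) → W ≤ X → X = W := fun h =>
        h4 (finrank_eq_of_max nd8 finrank_V8 exists_tsm hW h)
      push Not at h1
      obtain ⟨X, hX, hWX, hne⟩ := h1
      have h2 : finrank F W < finrank F X := Submodule.finrank_lt_finrank_of_lt (lt_of_le_of_ne hWX hne.symm)
      have h3 : finrank F X ≤ 4 := finrank_le_of_ts nd8 finrank_V8 hX
      obtain ⟨Y, hY, h5, h6⟩ := ih (4 - finrank F X) (by omega) hX rfl
      exact ⟨Y, hY, h5, hWX.trans h6⟩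

/-- T2' -/
theorem exists_four [Finite F] (hG : Good (plusForm 4 F)) {W : Submodule F (V8 F)} (hW : TS (plusForm 4 F) W)
    (h3 : finrank F W = 3) : ∃ X, TS (plusForm 4 F) X ∧ finrank F X = 4 ∧ W ≤ X := exists_max hW

theorem mem_img_ofO {g : V8 F ≃ₗ[F] V8 F} (hg : g ∈ O (plusForm 4 F)) (U : Submodule F (V8 F)) :
    img (ofO g hg) U = mapHom g U := by
  ext v
  rw [mem_img, mem_mapHom]
  constructor
  · intro h
    refine ⟨_, h, ?_⟩
    exact (ofO g hg).1.apply_symm_apply v
  · rintro ⟨w, hw, rfl⟩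
    have h1 : (ofO g hg).1⁻¹ (g w) = w := (ofO g hg).1.symm_apply_apply w
    rw [h1]
    exact hw

/-- the elements of `E Q` preserve the families of the totally singular 4-spaces -/
theorem ev_of_E {g : V8 F ≃ₗ[F] V8 F} (hg : g ∈ E (plusForm 4 F)) : Ev 4 (ofO g (E_le_O hg)) := by
  have key : ∀ g ∈ E (plusForm 4 F), ∃ hO : g ∈ O (plusForm 4 F), Ev 4 (ofO g hO) := by
    intro g hg
    unfold E at hg
    induction hg using Subgroup.closure_induction with
    | mem x hx =>
      obtain ⟨u, w, hu, hw, rfl⟩ := hx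
      refine ⟨E_le_O (siegel_mem_E hu hw), ?_⟩
      obtain ⟨X, hX, h4, huX⟩ := exists_max (W := Submodule.span F {u}) (by
        intro z hz
        obtain ⟨c, rfl⟩ := Submodule.mem_span_singleton.1 hz
        rw [QuadraticMap.map_smul, hu, smul_zero])
      have huX' : u ∈ X := huX (Submodule.mem_span_singleton_self u)
      refine ev_of_one nd8 finrank_V8 (U := X) ⟨h4, hX⟩ ?_
      have h1 : img (ofO _ (E_le_O (siegel_mem_E hu hw))) X = X := by
        rw [mem_img_ofO]
        apply Submodule.eq_of_le_of_finrank_eq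
        · rintro _ ⟨z, hz, rfl⟩
          change siegel (plusForm 4 F) u w hu hw z ∈ X
          rw [siegel_apply]
          have hz0' : polar (plusForm 4 F) u z = 0 := hX.polar huX' hz
          simp only [hz0', zero_smul, mul_zero, add_zero, sub_zero]
          exact X.sub_mem hz (X.smul_mem _ huX')
        · exact LinearEquiv.finrank_map_eq _ _
      rw [h1, inf_idem, h4]
      decide
    | one =>
      refine ⟨(O _).one_mem, ?_⟩
      refine ev_of_img_eq fun U _ => ?_
      rw [mem_img_ofO, map_one]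
      rfl
    | mul x y _ _ ihx ihy =>
      obtain ⟨hx, h1⟩ := ihx
      obtain ⟨hy, h2⟩ := ihy
      refine ⟨(O _).mul_mem hx hy, ?_⟩
      have h3 : ofO (x * y) ((O _).mul_mem hx hy) = ofO x hx * ofO y hy := by
        apply Subtype.ext
        ext v
        rfl
      rw [h3, ev_mul nd8 finrank_V8 exists_tsm]
      exact ⟨fun _ => h2, fun _ => h1⟩
    | inv x _ ih =>
      obtain ⟨hx, h1⟩ := ih
      refine ⟨(O _).inv_mem hx, ?_⟩
      have h3 : ofO x⁻¹ ((O _).inv_mem hx) = (ofO x hx)⁻¹ := by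
        apply eq_inv_of_mul_eq_one_left
        apply Subtype.ext
        ext v
        exact congrFun (x.symm_apply_apply v) _
      rw [h3, ev_inv nd8 finrank_V8 exists_tsm]
      exact h1
  obtain ⟨_, h⟩ := key g hg
  exact h

/-- T2 -/
theorem stab_le_stab [Finite F] (hG : Good (plusForm 4 F)) {W X : Submodule F (V8 F)} (hX : TS (plusForm 4 F) X)
    (h4 : finrank F X = 4) (h3 : finrank F W = 3) (hWX : W ≤ X) : stab hG W ≤ stab hG X := by
  intro p hp
  obtain ⟨g, rfl⟩ := QuotientGroup.mk_surjective p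
  rw [mem_stab, pact_mk] at hp ⊢
  have h1 := ev_of_E g.2 X ⟨h4, hX⟩
  rw [mem_img_ofO] at h1
  have h2 : W ≤ X ⊓ mapHom (g : V8 F ≃ₗ[F] V8 F) X := by
    refine le_inf hWX ?_
    rw [← hp]
    exact Submodule.map_mono hWX
  have h5 := Submodule.finrank_mono h2
  have h6 := Submodule.finrank_mono (inf_le_left : X ⊓ mapHom (g : V8 F ≃ₗ[F] V8 F) X ≤ X)
  rw [h3] at h5
  rw [h4] at h6
  have h7 : finrank F ↥(X ⊓ mapHom (g : V8 F ≃ₗ[F] V8 F) X) = 4 := by
    rw [Nat.even_iff] at h1
    omega
  have h8 : X ⊓ mapHom (g : V8 F ≃ₗ[F] V8 F) X = X :=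
    Submodule.eq_of_le_of_finrank_eq inf_le_left (by rw [h7, h4])
  have h9 : X ≤ mapHom (g : V8 F ≃ₗ[F] V8 F) X := inf_eq_left.1 h8
  refine (Submodule.eq_of_le_of_finrank_eq h9 ?_).symm
  exact (LinearEquiv.finrank_map_eq _ _).symm

/-- the conjugation -/
theorem kap_stab (hG : Good (plusForm 4 F)) (S : Submodule F (V8 F)) :
    (stab hG S).map (Psi _ (kapG F)).toMonoidHom = stab hG (mapHom (kap F) S) := by
  have key : ∀ (S : Submodule F (V8 F)) (p : P8 F), p ∈ stab hG S →
      Psi _ (kapG F) p ∈ stab hG (mapHom (kap F) S) := by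
    intro S p hp
    obtain ⟨g, rfl⟩ := QuotientGroup.mk_surjective p
    rw [mem_stab, pact_mk] at hp
    rw [Psi_mk, mem_stab, pact_mk]
    have h1 : ((conjE _ (kapG F) g : ↥(E (plusForm 4 F))) : V8 F ≃ₗ[F] V8 F) = kap F * g * kap F := conjLin_kapG _
    rw [h1, map_mul, map_mul, Equiv.Perm.mul_apply, Equiv.Perm.mul_apply]
    have h2 : mapHom (kap F) (mapHom (kap F) S) = S := by
      rw [← Equiv.Perm.mul_apply, ← map_mul, kap_mul_kap, map_one]
      rfl
    rw [h2, hp]
  have hkk : Psi (plusForm 4 F) (kapG F) * Psi (plusForm 4 F) (kapG F) = 1 := by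
    rw [← map_mul, kapG_mul_kapG, map_one]
  ext p
  constructor
  · rintro ⟨q, hq, rfl⟩
    exact key S q hq
  · intro hp
    refine ⟨Psi _ (kapG F) p, ?_, ?_⟩
    · have h1 := key _ p hp
      have h2 : mapHom (kap F) (mapHom (kap F) S) = S := by
        rw [← Equiv.Perm.mul_apply, ← map_mul, kap_mul_kap, map_one]
        rfl
      rwa [h2] at h1
    · exact DFunLike.congr_fun hkk p

theorem kap_leftSp (y : V8 F) : mapHom (kap F) (leftSp (oconj y)) = rightSp y := by
  ext v
  rw [mem_mapHom, mem_rightSp]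
  constructor
  · rintro ⟨_, ⟨t, rfl⟩, rfl⟩
    refine ⟨oconj t, ?_⟩
    change _ = oconj (omul (oconj y) t)
    rw [oconj_omul, oconj_oconj]
  · rintro ⟨t, rfl⟩
    refine ⟨omul (oconj y) (oconj t), ⟨oconj t, rfl⟩, ?_⟩
    change oconj (omul (oconj y) (oconj t)) = _
    rw [oconj_omul, oconj_oconj, oconj_oconj]

/-- T1 -/
theorem exists_aut_stab [Finite F] (hG : Good (plusForm 4 F)) {X : Submodule F (V8 F)} (hX : TS (plusForm 4 F) X)
    (h4 : finrank F X = 4) : ∃ (α : MulAut (P8 F)) (u : V8 F), plusForm 4 F u = 0 ∧ u ≠ 0 ∧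
      (stab hG (Submodule.span F {u})).map α.toMonoidHom = stab hG X := by
  have htau : ∀ u : V8 F, plusForm 4 F u = 0 → u ≠ 0 →
      (stab hG (Submodule.span F {u})).map (tau hG).toMonoidHom = stab hG (leftSp u) := by
    intro u hu hu0
    have h1 := tau_stab_xO hG hu hu0
    rw [← h1, Subgroup.map_map]
    have h3 : ((tau hG).toMonoidHom.comp (tau hG).toMonoidHom) = MonoidHom.id _ := by
      ext p
      exact tau_tau hG p
    rw [h3, Subgroup.map_id]
    rfl
  obtain ⟨y, hy, hy0, rfl | rfl⟩ := isOct_of_singular hX h4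
  · exact ⟨tau hG, y, hy, hy0, htau y hy hy0⟩
  · have h1 : plusForm 4 F (oconj y) = 0 := by rw [norm_oconj, hy]
    have h2 := htau (oconj y) h1 (oconj_ne_zero hy0)
    refine ⟨Psi _ (kapG F) * tau hG, oconj y, h1, oconj_ne_zero hy0, ?_⟩
    rw [← kap_leftSp, ← kap_stab, ← h2, Subgroup.map_map]
    rfl

end Cfsg.Agent.H462.OEight
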